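import Groth.Agent.PuncLef.FullFaithful
import Groth.Agent.Hensel.Pairs
import Groth.Agent.Hensel.Local
import Groth.Agent.CAlgN2.AnUnram
import Groth.Agent.S0239
import Groth.Agent.S0262

/-!
# Covers of the punctured spectrum extend if their restriction to a hypersurface does
-/

set_option autoImplicit false
set_option backward.isDefEq.respectTransparency false
set_option backward.isDefEq.respectTransparency.types false
set_option linter.style.haveILetI false
set_option maxHeartbeats 1000000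

noncomputable section

universe u

open IsLocalRing AlgebraicGeometry CategoryTheory CategoryTheory.Limits TopologicalSpace

namespace Groth.Agent.PuncLef

/-- restriction of covers along composites -/
def restrictComp {X Y Z : Scheme.{u}} (f : X ⟶ Y) (g : Y ⟶ Z) :
    FEt.restrict g ⋙ FEt.restrict f ≅ FEt.restrict (f ≫ g) :=
  (MorphismProperty.Over.pullbackComp f g).symm

/-- commutative squares give isomorphic restrictions -/
def restrictSquare {W X Y Z : Scheme.{u}} {a : W ⟶ X} {b : W ⟶ Y} {c : X ⟶ Z} {d : Y ⟶ Z}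
    (h : a ≫ c = b ≫ d) (E : FEt.Cat Z) :
    (FEt.restrict a).obj ((FEt.restrict c).obj E) ≅ (FEt.restrict b).obj ((FEt.restrict d).obj E) :=
  (restrictComp a c).app E ≪≫ eqToIso (by rw [h]) ≪≫ ((restrictComp b d).app E).symm

variable {A : Type u} [CommRing A] [IsNoetherianRing A]

theorem extends_of_henselian [HenselianLocalRing A] (hA : (3 : ℕ∞) ≤ LocCoh.depth A A)
    {f : A} (hf : f ∈ maximalIdeal A) (V : FEt.Cat (FEt.puncturedSpec A : Scheme.{u}))
    (Y₀ : FEt.Cat (Spec (CommRingCat.of (A ⧸ Ideal.span {f}))))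
    (e₀ : (FEt.restrict (pullback.snd (FEt.puncturedSpec A).ι
        (Spec.map (CommRingCat.ofHom (Ideal.Quotient.mk (Ideal.span {f})))))).obj Y₀ ≅
        (FEt.restrict (pullback.fst (FEt.puncturedSpec A).ι
        (Spec.map (CommRingCat.ofHom (Ideal.Quotient.mk (Ideal.span {f})))))).obj V) :
    ∃ Y : FEt.Cat (Spec (CommRingCat.of A)),
      Nonempty ((FEt.restrict (FEt.puncturedSpec A).ι).obj Y ≅ V) := by
  let i := Spec.map (CommRingCat.ofHom (Ideal.Quotient.mk (Ideal.span {f})))
  let ι := (FEt.puncturedSpec A).ι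
  haveI : HenselianRing A (maximalIdeal A) := Hensel.henselianLocalRing_iff_henselianRing.mp ‹_›
  haveI : HenselianRing A (Ideal.span {f}) :=
    Hensel.henselianRing_of_le (J := maximalIdeal A) ((Ideal.span_singleton_le_iff_mem _).mpr hf)
  haveI : (FEt.restrict i).IsEquivalence := Groth.Agent.S0239.result A (Ideal.span {f})
  let Y := (FEt.restrict i).objPreimage Y₀
  let eY : (FEt.restrict i).obj Y ≅ Y₀ := (FEt.restrict i).objObjPreimageIso Y₀
  haveI : (FEt.restrict (pullback.fst ι i)).Full := (full_faithful_hypersurface hA hf).1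
  haveI : (FEt.restrict (pullback.fst ι i)).Faithful := (full_faithful_hypersurface hA hf).2
  exact ⟨Y, ⟨(FEt.restrict (pullback.fst ι i)).preimageIso
    (restrictSquare pullback.condition Y ≪≫ (FEt.restrict (pullback.snd ι i)).mapIso eY ≪≫ e₀)⟩⟩

variable [IsLocalRing A]

theorem extends_of_hypersurface (hA : (3 : ℕ∞) ≤ LocCoh.depth A A)
    {f : A} (hf : f ∈ maximalIdeal A) (V : FEt.Cat (FEt.puncturedSpec A : Scheme.{u}))
    (Y₀ : FEt.Cat (Spec (CommRingCat.of (A ⧸ Ideal.span {f}))))
    (e₀ : (FEt.restrict (pullback.snd (FEt.puncturedSpec A).ι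
        (Spec.map (CommRingCat.ofHom (Ideal.Quotient.mk (Ideal.span {f})))))).obj Y₀ ≅
        (FEt.restrict (pullback.fst (FEt.puncturedSpec A).ι
        (Spec.map (CommRingCat.ofHom (Ideal.Quotient.mk (Ideal.span {f})))))).obj V) :
    ∃ Y : FEt.Cat (Spec (CommRingCat.of A)),
      Nonempty ((FEt.restrict (FEt.puncturedSpec A).ι).obj Y ≅ V) := by
  let R := AdicCompletion (maximalIdeal A) A
  let φ := algebraMap A R
  haveI : IsNoetherianRing R := CAlgN2.isNoetherianRing_completion A
  haveI : HenselianLocalRing R := Hensel.henselianLocalRing_iff_henselianRing.mpr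
    (IsAdicComplete.henselianRing R (maximalIdeal R))
  have hm : (maximalIdeal A).map φ = maximalIdeal R := AdicCompletion.maximalIdeal_eq_map.symm
  have hR : (3 : ℕ∞) ≤ LocCoh.depth R R := by
    obtain ⟨rs, hl, hmem, hr⟩ := (Depth.le_idealDepth_iff_exists
      (Depth.smul_top_ne_top_self (IsLocalRing.maximalIdeal.isMaximal A).ne_top) (n := 3)).mp hA
    refine (Depth.le_idealDepth_iff_exists
      (Depth.smul_top_ne_top_self (IsLocalRing.maximalIdeal.isMaximal _).ne_top) (n := 3)).mpr
      ⟨rs.map φ, by simpa using hl, ?_, RingTheory.Sequence.IsWeaklyRegular.of_flat hr⟩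
    intro r hr'
    obtain ⟨a, ha, rfl⟩ := List.mem_map.mp hr'
    exact hm ▸ Ideal.mem_map_of_mem φ (hmem a ha)
  have hfR : φ f ∈ maximalIdeal R := hm ▸ Ideal.mem_map_of_mem φ hf
  let c := Spec.map (CommRingCat.ofHom φ)
  let U := FEt.puncturedSpec A
  let U' := FEt.puncturedSpec R
  have hc : ∀ p : Spec (CommRingCat.of R), p ≠ closedPoint R → c p ≠ closedPoint A := by
    intro p hp h
    apply hp
    refine PrimeSpectrum.ext (le_antisymm (IsLocalRing.le_maximalIdeal p.2.ne_top) ?_)
    show maximalIdeal R ≤ p.asIdeal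
    rw [← hm, Ideal.map_le_iff_le_comap]
    exact le_of_eq (congrArg PrimeSpectrum.asIdeal h).symm
  let τ : (U' : Scheme.{u}) ⟶ U := IsOpenImmersion.lift U.ι (U'.ι ≫ c) (by
    rintro _ ⟨x, rfl⟩
    rw [Scheme.Opens.range_ι, Scheme.Hom.comp_apply]
    exact hc _ x.2)
  have hτ : τ ≫ U.ι = U'.ι ≫ c := IsOpenImmersion.lift_fac _ _ _
  let i := Spec.map (CommRingCat.ofHom (Ideal.Quotient.mk (Ideal.span {f})))
  let i' := Spec.map (CommRingCat.ofHom (Ideal.Quotient.mk (Ideal.span {φ f})))
  let dbar : A ⧸ Ideal.span {f} →+* R ⧸ Ideal.span {φ f} := Ideal.quotientMap _ φ (by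
    rw [Ideal.span_singleton_le_iff_mem, Ideal.mem_comap]
    exact Ideal.mem_span_singleton_self _)
  let d := Spec.map (CommRingCat.ofHom dbar)
  have hd : d ≫ i = i' ≫ c := by
    show Spec.map _ ≫ Spec.map _ = Spec.map _ ≫ Spec.map _
    rw [← Spec.map_comp, ← Spec.map_comp]
    rfl
  let θ : pullback U'.ι i' ⟶ pullback U.ι i :=
    pullback.lift (pullback.fst U'.ι i' ≫ τ) (pullback.snd U'.ι i' ≫ d) (by
      rw [Category.assoc, hτ, pullback.condition_assoc, Category.assoc, hd])
  let V' := (FEt.restrict τ).obj V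
  obtain ⟨Y', ⟨eY⟩⟩ := extends_of_henselian hR hfR V' ((FEt.restrict d).obj Y₀)
    (restrictSquare (pullback.lift_snd _ _ _).symm Y₀ ≪≫ (FEt.restrict θ).mapIso e₀ ≪≫
      restrictSquare (pullback.lift_fst _ _ _) V)
  let ε : pullback U.ι c ⟶ U' := IsOpenImmersion.lift U'.ι (pullback.snd U.ι c) (by
    rintro _ ⟨x, rfl⟩
    rw [Scheme.Opens.range_ι]
    intro h
    apply (pullback.fst U.ι c x).2
    show U.ι (pullback.fst U.ι c x) = closedPoint A
    rw [← Scheme.Hom.comp_apply, pullback.condition, Scheme.Hom.comp_apply, show pullback.snd U.ι c x = closedPoint R from h]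
    exact IsLocalRing.comap_closedPoint φ)
  have hε : ε ≫ U'.ι = pullback.snd U.ι c := IsOpenImmersion.lift_fac _ _ _
  have hετ : ε ≫ τ = pullback.fst U.ι c := by
    rw [← cancel_mono U.ι, Category.assoc, hτ, reassoc_of% hε, pullback.condition]
  refine (Groth.Agent.S0262.result A V).mpr ⟨Y', ⟨?_⟩⟩
  exact eqToIso (by rw [hε]) ≪≫ ((restrictComp ε U'.ι).app Y').symm ≪≫
    (FEt.restrict ε).mapIso eY ≪≫ (restrictComp ε τ).app V ≪≫ eqToIso (by rw [hετ])

end Groth.Agent.PuncLef
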