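import Groth.Agent.PuncLef.Idem
import Groth.Agent.PurityReg.Scheme
import Groth.Agent.PurityReg.Punct
import Groth.Agent.FEtLib.FullCrit
import Groth.Agent.HenselCouple.Basic
import Groth.Agent.HenselCouple.Lift

/-!
# Open-closed subsets and full faithfulness towards a hypersurface of the punctured spectrum
-/

set_option autoImplicit false
set_option backward.isDefEq.respectTransparency false
set_option backward.isDefEq.respectTransparency.types false
set_option linter.style.haveILetI false
set_option maxHeartbeats 1000000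

noncomputable section

universe u

open IsLocalRing TensorProduct AlgebraicGeometry CategoryTheory CategoryTheory.Limits TopologicalSpace

namespace Groth.Agent.PuncLef

open PurityReg (FEtOff Sat RegPair structMap)

/-- covers of the punctured spectrum are open parts of spectra of finite algebras -/
theorem exists_model {A : Type u} [CommRing A] [IsNoetherianRing A] [IsLocalRing A]
    (hA : (2 : ℕ∞) ≤ LocCoh.depth A A) (V : FEt.Cat (FEt.puncturedSpec A : Scheme.{u})) :
    ∃ (P : Type u) (_ : CommRing P) (_ : Algebra A P) (t : V.left ⟶ Spec (CommRingCat.of P)),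
      Module.Finite A P ∧ FEtOff A P ∧ Sat A P ∧
        IsPullback V.hom t (FEt.puncturedSpec A).ι (Spec.map (CommRingCat.ofHom (algebraMap A P))) := by
  haveI : IsNoetherianRing (CommRingCat.of A) := ‹IsNoetherianRing A›
  let U := FEt.puncturedSpec A
  haveI : CompactSpace U := isCompact_iff_compactSpace.mp (TopologicalSpace.NoetherianSpace.isCompact _)
  haveI : IsIso U.ι.appTop := (PurityReg.hasRegSeq2_punctured hA).res_bijective_appTop
  haveI : U.toScheme.IsQuasiAffine := Scheme.IsQuasiAffine.of_isImmersion U.ι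
  let g : V.left ⟶ U.toScheme := V.hom
  haveI : IsFinite g := V.prop.1
  haveI : Etale g := V.prop.2
  haveI : CompactSpace V.left := QuasiCompact.compactSpace_of_compactSpace g
  haveI : V.left.IsQuasiAffine := Scheme.IsQuasiAffine.of_isAffineHom g
  let q : V.left ⟶ Spec (CommRingCat.of A) := g ≫ U.ι
  have hq : ∀ w : V.left, q w ≠ closedPoint A := fun w => (g w).2
  let φ := structMap q
  letI : Algebra A Γ(V.left, ⊤) := φ.hom.toAlgebra
  have hι : U.toScheme.toSpecΓ ≫ Spec.map ((Scheme.ΓSpecIso (CommRingCat.of A)).inv ≫ U.ι.appTop) = U.ι := by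
    rw [Spec.map_comp, ← Category.assoc, ← Scheme.toSpecΓ_naturality, Category.assoc,
      ← SpecMap_ΓSpecIso_hom, ← Spec.map_comp, Iso.inv_hom_id, Spec.map_id, Category.comp_id]
  have P : IsPullback g V.left.toSpecΓ U.ι (Spec.map φ) := by
    haveI : IsIso ((Scheme.ΓSpecIso (CommRingCat.of A)).inv ≫ U.ι.appTop) := inferInstance
    refine (Scheme.isPullback_toSpecΓ_toSpecΓ g).of_iso (Iso.refl _) (Iso.refl _) (Iso.refl _)
      (asIso (Spec.map ((Scheme.ΓSpecIso (CommRingCat.of A)).inv ≫ U.ι.appTop))) (by simp) (by simp) ?_ ?_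
    · simpa using hι
    · simp only [Iso.refl_hom, Category.id_comp, asIso_hom, ← Spec.map_comp, φ, structMap, q,
        Scheme.Hom.comp_appTop, Category.assoc]
  have hFE : FEtOff A Γ(V.left, ⊤) := fun f hf => by
    let Af := Localization.Away f
    let j := Spec.map (CommRingCat.ofHom (algebraMap A Af))
    have hj : Set.range j ⊆ Set.range U.ι := by
      rintro _ ⟨p, rfl⟩
      rw [Scheme.Opens.range_ι]
      intro hp
      have h1 : PrimeSpectrum.comap (algebraMap A Af) p = closedPoint A := hp
      have h2 : f ∈ PrimeSpectrum.asIdeal (PrimeSpectrum.comap (algebraMap A Af) p) := by rw [h1]; exact hf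
      exact p.isPrime.ne_top (Ideal.eq_top_of_isUnit_mem _ h2 (IsLocalization.Away.algebraMap_isUnit f))
    let l := IsOpenImmersion.lift U.ι j hj
    have hlj : l ≫ U.ι = j := IsOpenImmersion.lift_fac _ _ _
    have Q : IsPullback (pullback.snd g l) (pullback.fst g l ≫ V.left.toSpecΓ) j (Spec.map φ) := by
      rw [← hlj]
      exact (IsPullback.of_hasPullback g l).flip.paste_vert P
    have h1 : FEt.prop (pullback.snd g l) := MorphismProperty.pullback_snd g l V.prop
    have h2 : FEt.prop (pullback.fst j (Spec.map φ)) := by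
      rw [← Q.isoPullback_inv_fst]
      exact (MorphismProperty.cancel_left_of_respectsIso FEt.prop _ _).2 h1
    have h3 : FEt.prop (Spec.map (CommRingCat.ofHom (algebraMap Af (Af ⊗[A] Γ(V.left, ⊤))))) := by
      rw [← pullbackSpecIso_inv_fst']
      exact (MorphismProperty.cancel_left_of_respectsIso FEt.prop _ _).2 h2
    exact ⟨RingHom.finite_algebraMap.1 ((IsFinite.SpecMap_iff _).1 h3.1),
      RingHom.etale_algebraMap.1 ((HasRingHomProperty.Spec_iff (P := @Etale)).1 h3.2)⟩
  obtain ⟨x, y, hx, hy, hp⟩ := PurityReg.exists_regPair hA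
  have hS : Sat A Γ(V.left, ⊤) := ⟨x, y, hx, hy, PurityReg.regPair_gamma q rfl hFE hq hp⟩
  refine ⟨Γ(V.left, ⊤), inferInstance, inferInstance, V.left.toSpecΓ, ?_, hFE, hS, P⟩
  exact PurityReg.finite_of_fEtOff _ (ParaFUFD.ores_punctured_bijective hA) hFE
    fun w hw => PurityReg.eq_zero_of_away hx (PurityReg.regPair_gamma q rfl hFE hq hp).reg hw

variable {A : Type u} [CommRing A] [IsNoetherianRing A] [HenselianLocalRing A]

/-- open-closed subsets over `V(f)` descend -/
theorem clopenDescend (hd : (3 : ℕ∞) ≤ LocCoh.depth A A) {f : A} (hf : f ∈ maximalIdeal A) :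
    FEtLib.ClopenDescend (pullback.fst (FEt.puncturedSpec A).ι
      (Spec.map (CommRingCat.ofHom (Ideal.Quotient.mk (Ideal.span {f}))))) := by
  intro Z W hW
  obtain ⟨P, _, _, t, hfin, hFE, hS, sq⟩ := exists_model (le_trans (by norm_num) hd) Z
  haveI := hfin
  let U := FEt.puncturedSpec A
  let mk := Spec.map (CommRingCat.ofHom (Ideal.Quotient.mk (Ideal.span {f})))
  let j := pullback.fst U.ι mk
  haveI : IsOpenImmersion t := MorphismProperty.of_isPullback (P := @IsOpenImmersion) sq (Scheme.Opens.instIsOpenImmersionι U)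
  haveI : IsClosedImmersion mk := HenselCouple.isClosedImmersion_spec_quotient (Ideal.span {f})
  haveI : IsClosedImmersion j := MorphismProperty.pullback_fst _ _ ‹_›
  let k := pullback.fst Z.hom j
  haveI : IsClosedImmersion k := MorphismProperty.pullback_fst _ _ ‹_›
  have hrj : Set.range j = U.ι ⁻¹' PrimeSpectrum.zeroLocus {f} := by
    rw [Scheme.Pullback.range_fst]
    show _ ⁻¹' Set.range mk = _
    rw [HenselCouple.range_spec_quotient, PrimeSpectrum.zeroLocus_span]
  have hrk : Set.range k = Z.hom ⁻¹' (U.ι ⁻¹' PrimeSpectrum.zeroLocus {f}) := by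
    rw [← hrj]; exact Scheme.Pullback.range_fst _ _
  have hcomm : ∀ z : Z.left, PrimeSpectrum.comap (algebraMap A P) (t z) = U.ι (Z.hom z) := fun z => by
    have := congr($(sq.w) z)
    rw [Scheme.Hom.comp_apply, Scheme.Hom.comp_apply] at this
    exact this.symm
  have hS₀ : ∀ z : Z.left, z ∈ Set.range k ↔ algebraMap A P f ∈ (t z).asIdeal := fun z => by
    rw [hrk]
    show U.ι (Z.hom z) ∈ PrimeSpectrum.zeroLocus {f} ↔ _
    rw [← hcomm]
    exact Set.singleton_subset_iff
  have hrt : ∀ Q : PrimeSpectrum P, Q.asIdeal.comap (algebraMap A P) ≠ maximalIdeal A →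
      ∃ z : Z.left, t z = Q := fun Q hQ => by
    obtain ⟨z, -, hz⟩ := Scheme.exists_preimage_of_isPullback sq
      (⟨PrimeSpectrum.comap (algebraMap A P) Q, fun h => hQ (congrArg PrimeSpectrum.asIdeal h)⟩ : U.toScheme) Q rfl
    exact ⟨z, hz⟩
  let C : Set (PrimeSpectrum P) := closure (t '' (k '' W))
  let C' : Set (PrimeSpectrum P) := closure (t '' (k '' Wᶜ))
  have hcl : ∀ (S : Set ↥(pullback Z.hom j)), IsClosed S → ∀ z : Z.left,
      (t z : PrimeSpectrum P) ∈ closure (t '' (k '' S)) ↔ z ∈ k '' S := fun S hS z => by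
    have h1 : IsClosed (k '' S) := k.isClosedEmbedding.isClosedMap _ hS
    have h2 := t.isOpenEmbedding.isInducing.closure_eq_preimage_closure_image (k '' S)
    rw [h1.closure_eq] at h2
    exact (Set.ext_iff.1 h2 z).symm
  obtain ⟨E, hE, hEC⟩ := exists_idem hd hFE hS hf (C := C) (C' := C') isClosed_closure isClosed_closure
    fun Q hQf hQm => by
      obtain ⟨z, rfl⟩ := hrt Q hQm
      rw [hcl W hW.isClosed z, hcl Wᶜ hW.compl.isClosed z]
      obtain ⟨p, rfl⟩ := (hS₀ z).2 hQf
      rw [k.isClosedEmbedding.injective.mem_set_image, k.isClosedEmbedding.injective.mem_set_image]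
      exact not_not.symm
  refine ⟨t ⁻¹' (PrimeSpectrum.basicOpen E : Set (PrimeSpectrum P)),
    (PrimeSpectrum.isClopen_iff_mul_add.2 ⟨E, 1 - E, by rw [mul_sub, mul_one, hE.eq, sub_self],
      by ring, rfl⟩).preimage t.continuous, Set.ext fun p => ?_⟩
  have hQm : (t (k p)).asIdeal.comap (algebraMap A P) ≠ maximalIdeal A := fun he => (Z.hom (k p)).2 (by
    show (U.ι (Z.hom (k p)) : PrimeSpectrum A) = closedPoint A
    rw [← hcomm]
    exact PrimeSpectrum.ext he)
  refine (hEC (t (k p)) ((hS₀ _).1 ⟨p, rfl⟩) hQm).trans ?_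
  rw [hcl W hW.isClosed (k p), k.isClosedEmbedding.injective.mem_set_image]

/-- nonempty open-closed subsets of the punctured spectrum meet `V(f)` -/
theorem clopen_meets (hd : (2 : ℕ∞) ≤ LocCoh.depth A A) {f : A} (hf : f ∈ maximalIdeal A)
    (W : Set (FEt.puncturedSpec A : Scheme.{u})) (hW : IsClopen W) (hne : W.Nonempty) :
    (W ∩ Set.range (pullback.fst (FEt.puncturedSpec A).ι
      (Spec.map (CommRingCat.ofHom (Ideal.Quotient.mk (Ideal.span {f})))))).Nonempty := by
  haveI : IsNoetherianRing (CommRingCat.of A) := ‹IsNoetherianRing A›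
  let U := FEt.puncturedSpec A
  haveI : CompactSpace U := isCompact_iff_compactSpace.mp (TopologicalSpace.NoetherianSpace.isCompact _)
  haveI : IsIso U.ι.appTop := (PurityReg.hasRegSeq2_punctured hd).res_bijective_appTop
  obtain ⟨e, he, heW⟩ := HenselCouple.exists_idem_basicOpen hW
  let E : A ≃+* Γ(U.toScheme, ⊤) :=
    ((Scheme.ΓSpecIso (CommRingCat.of A)).symm ≪≫ asIso U.ι.appTop).commRingCatIsoToRingEquiv
  have hWu : W = Set.univ := by
    rcases HenselCouple.eq_zero_or_one (he.map E.symm) with h | h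
    · have h0 : e = 0 := by rw [← E.apply_symm_apply e, h, map_zero]
      subst h0
      rw [Scheme.basicOpen_zero] at heW
      exact absurd hne (by rw [← heW]; simp)
    · have h1 : e = 1 := by rw [← E.apply_symm_apply e, h, map_one]
      subst h1
      rw [Scheme.basicOpen_of_isUnit _ isUnit_one] at heW
      rw [← heW]; rfl
  obtain ⟨x, y, hx, hy, hp⟩ := PurityReg.exists_regPair hd
  obtain ⟨Q, -, hQf, hQm⟩ := exists_point_below (P := A) (⟨x, y, hx, hy, hp⟩ : Sat A A) hf (maximalIdeal A)
  let u : U.toScheme := ⟨Q, fun h => hQm (by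
    rw [Algebra.algebraMap_self, Ideal.comap_id]; exact congrArg PrimeSpectrum.asIdeal h)⟩
  refine ⟨u, hWu ▸ Set.mem_univ u, ?_⟩
  rw [Scheme.Pullback.range_fst, HenselCouple.range_spec_quotient, PrimeSpectrum.zeroLocus_span]
  show (Q : PrimeSpectrum A) ∈ PrimeSpectrum.zeroLocus {f}
  exact Set.singleton_subset_iff.2 hQf

/-- restriction to the punctured spectrum of `A/f` is fully faithful -/
theorem full_faithful_hypersurface (hd : (3 : ℕ∞) ≤ LocCoh.depth A A) {f : A} (hf : f ∈ maximalIdeal A) :
    (FEt.restrict (pullback.fst (FEt.puncturedSpec A).ι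
      (Spec.map (CommRingCat.ofHom (Ideal.Quotient.mk (Ideal.span {f})))))).Full ∧
    (FEt.restrict (pullback.fst (FEt.puncturedSpec A).ι
      (Spec.map (CommRingCat.ofHom (Ideal.Quotient.mk (Ideal.span {f})))))).Faithful :=
  FEtLib.full_faithful_restrict _ (clopen_meets (le_trans (by norm_num) hd) hf) (clopenDescend hd hf)

end Groth.Agent.PuncLef
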