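import Groth.Agent.PurityTower.Algebraize
import Groth.Agent.Hensel.Main
import Groth.Agent.Hensel.Basic

/-!
# Open-closed subsets of a hypersurface of a punctured spectrum lift

For `A` henselian of depth at least three and `P` finite, étale off the closed point, an open-closed subset
of `V(f)` off the closed fibre is the trace of an idempotent of `P`.
-/

set_option autoImplicit false
set_option backward.isDefEq.respectTransparency false
set_option backward.isDefEq.respectTransparency.types false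
set_option linter.style.haveILetI false
set_option maxHeartbeats 1000000

noncomputable section

universe u

open IsLocalRing TensorProduct Function

namespace Groth.Agent.PuncLef

open PurityTower (Lc aw rs C0 C1 Z1 H1 d0 PairM Reg3)
open PurityReg (RegPair FEtOff Sat)

variable {A : Type u} [CommRing A] {P : Type u} [CommRing P] [Algebra A P]

/-- restriction of localisations as a ring map -/
def rsR {a b : A} (h : a ∣ b) : Lc P a →ₐ[A] Lc P b :=
  Algebra.TensorProduct.map (IsLocalization.Away.liftAlgHom a (f := Algebra.ofId A (Localization.Away b))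
    (PurityTower.isUnit_of_dvd h)) (AlgHom.id A P)

theorem rsR_apply {a b : A} (h : a ∣ b) (z : Lc P a) : rsR h z = rs h z := by
  induction z using TensorProduct.induction_on with
  | zero => rw [map_zero, map_zero]
  | add z z' e e' => rw [map_add, map_add, e, e']
  | tmul c m =>
    rw [rsR, Algebra.TensorProduct.map_tmul]
    rfl

/-- the map to a localisation -/
def awR (a : A) : P →ₐ[A] Lc P a := Algebra.TensorProduct.includeRight

theorem awR_apply (a : A) (w : P) : awR a w = aw a w := rfl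

theorem rsR_awR {a b : A} (h : a ∣ b) (w : P) : rsR h (awR a w) = awR b w := by
  rw [rsR_apply, awR_apply, PurityTower.rs_aw, awR_apply]

/-- an open-closed trace gives an idempotent modulo the ideal -/
theorem exists_idem_mod {S R : Type u} [CommRing S] [CommRing R] (φ : S →+* R) (I : Ideal R)
    {C C' : Set (PrimeSpectrum S)} (hC : IsClosed C) (hC' : IsClosed C')
    (h : ∀ Q : PrimeSpectrum R, I ≤ Q.asIdeal → (PrimeSpectrum.comap φ Q ∈ C ↔ PrimeSpectrum.comap φ Q ∉ C')) :
    ∃ e : R, e * e - e ∈ I ∧ ∀ Q : PrimeSpectrum R, I ≤ Q.asIdeal → (e ∉ Q.asIdeal ↔ PrimeSpectrum.comap φ Q ∈ C) := by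
  let k : PrimeSpectrum (R ⧸ I) → PrimeSpectrum S := fun Q =>
    PrimeSpectrum.comap φ (PrimeSpectrum.comap (Ideal.Quotient.mk I) Q)
  have hk : Continuous k := (PrimeSpectrum.continuous_comap φ).comp (PrimeSpectrum.continuous_comap _)
  have hle : ∀ Q : PrimeSpectrum (R ⧸ I), I ≤ (PrimeSpectrum.comap (Ideal.Quotient.mk I) Q).asIdeal := fun Q w hw => by
    show Ideal.Quotient.mk I w ∈ Q.asIdeal
    rw [Ideal.Quotient.eq_zero_iff_mem.2 hw]; exact Q.asIdeal.zero_mem
  have hclo : IsClopen (k ⁻¹' C) := ⟨hC.preimage hk, by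
    rw [show k ⁻¹' C = (k ⁻¹' C')ᶜ from Set.ext fun Q => h _ (hle Q)]
    exact (hC'.preimage hk).isOpen_compl⟩
  obtain ⟨e, e', hee, hsum, he⟩ := PrimeSpectrum.isClopen_iff_mul_add.1 hclo
  obtain ⟨e, rfl⟩ := Ideal.Quotient.mk_surjective e
  refine ⟨e, ?_, fun Q hQ => ?_⟩
  · rw [← Ideal.Quotient.eq_zero_iff_mem, map_sub, map_mul, sub_eq_zero]
    exact (IsIdempotentElem.of_mul_add hee hsum).1
  · let Q' : PrimeSpectrum (R ⧸ I) := ⟨Q.asIdeal.map (Ideal.Quotient.mk I),
      Ideal.map_isPrime_of_surjective Ideal.Quotient.mk_surjective (by rw [Ideal.mk_ker]; exact hQ)⟩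
    have hQ' : PrimeSpectrum.comap (Ideal.Quotient.mk I) Q' = Q := PrimeSpectrum.ext (Ideal.comap_map_mk hQ)
    have h1 := (Set.ext_iff.1 he Q').symm
    change (Ideal.Quotient.mk I e ∉ Q'.asIdeal ↔ PrimeSpectrum.comap φ _ ∈ C) at h1
    rw [hQ'] at h1
    refine Iff.trans (not_congr ?_) h1
    show e ∈ Q.asIdeal ↔ e ∈ (PrimeSpectrum.comap (Ideal.Quotient.mk I) Q').asIdeal
    rw [hQ']

/-- idempotents modulo an ideal agree when their open sets do -/
theorem sub_mem_of_agree {R : Type u} [CommRing R] (I : Ideal R) {e e' : R} (he : e * e - e ∈ I)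
    (he' : e' * e' - e' ∈ I) (h : ∀ Q : PrimeSpectrum R, I ≤ Q.asIdeal → (e ∉ Q.asIdeal ↔ e' ∉ Q.asIdeal)) :
    e - e' ∈ I := by
  rw [← Ideal.Quotient.eq]
  refine PrimeSpectrum.basicOpen_injOn_isIdempotentElem ?_ ?_ (TopologicalSpace.Opens.ext (Set.ext fun Q => ?_))
  · show IsIdempotentElem (Ideal.Quotient.mk I e)
    rw [IsIdempotentElem, ← map_mul, Ideal.Quotient.eq]; exact he
  · show IsIdempotentElem (Ideal.Quotient.mk I e')
    rw [IsIdempotentElem, ← map_mul, Ideal.Quotient.eq]; exact he'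
  · exact h (PrimeSpectrum.comap (Ideal.Quotient.mk I) Q) fun w hw => by
      show Ideal.Quotient.mk I w ∈ Q.asIdeal
      rw [Ideal.Quotient.eq_zero_iff_mem.2 hw]; exact Q.asIdeal.zero_mem

variable [IsNoetherianRing A] [IsLocalRing A]

/-- an element of `P` which is one on one part and zero on the other -/
theorem exists_separating (hd : (3 : ℕ∞) ≤ LocCoh.depth A A) [Module.Finite A P] (hP : FEtOff A P) (hS : Sat A P)
    {f : A} (hf : f ∈ maximalIdeal A) {C C' : Set (PrimeSpectrum P)} (hC : IsClosed C) (hC' : IsClosed C')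
    (hCC : ∀ Q : PrimeSpectrum P, algebraMap A P f ∈ Q.asIdeal → Q.asIdeal.comap (algebraMap A P) ≠ maximalIdeal A →
      (Q ∈ C ↔ Q ∉ C')) :
    ∃ e : P, ∀ Q : PrimeSpectrum P, algebraMap A P f ∈ Q.asIdeal →
      Q.asIdeal.comap (algebraMap A P) ≠ maximalIdeal A → e * e - e ∈ Q.asIdeal ∧ (e ∉ Q.asIdeal ↔ Q ∈ C) := by
  classical
  haveI : IsNoetherianRing P := IsNoetherianRing.of_finite A P
  obtain ⟨s, hs⟩ := (maximalIdeal A).fg_of_isNoetherianRing
  let ι := {t : A // t ∈ s}
  let a : ι → A := fun i => i.1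
  have ha : ∀ i, a i ∈ maximalIdeal A := fun i => hs ▸ Submodule.subset_span i.2
  have hrad : ∀ r ∈ maximalIdeal A, r ∈ (Ideal.span (Set.range a)).radical := fun r hr => by
    refine Ideal.le_radical ?_
    rw [← hs] at hr
    exact (Ideal.span_mono fun z hz => ⟨⟨z, hz⟩, rfl⟩ : Ideal.span (s : Set A) ≤ Ideal.span (Set.range a)) hr
  obtain ⟨x, y, z, hx, hy, hz, hR⟩ := PurityTower.exists_reg3 hd
  obtain ⟨x', y', hx', hy', hp⟩ := hS
  obtain ⟨g, ⟨T⟩⟩ := PurityTower.exists_retr hP a ha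
  obtain ⟨K, wK, hwK⟩ := PurityTower.exists_pow_eq_sum (a := a) (hrad f hf) T.e
  have hkill : ∀ h : H1 P a, f ^ K • h = 0 := fun h => by
    rw [← hwK, Finset.sum_smul]
    exact Finset.sum_eq_zero fun l _ => by
      rw [mul_smul, T.smul_H1 hR (hrad x hx) (hrad y hy) (hrad z hz), smul_zero]
  -- stabilisation of the kernel of multiplication by powers of `f`
  let μ : ℕ →o Submodule A P :=
    { toFun := fun k => LinearMap.ker (f ^ k • LinearMap.id : P →ₗ[A] P)
      monotone' := by
        intro i j hij w hw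
        obtain ⟨k, rfl⟩ := Nat.exists_eq_add_of_le hij
        have hw' : f ^ i • w = 0 := hw
        show f ^ (i + k) • w = 0
        rw [add_comm, pow_add, mul_smul, hw', smul_zero] }
  haveI : IsNoetherian A P := isNoetherian_of_isNoetherianRing_of_finite A P
  obtain ⟨N₀, hN₀⟩ := monotone_stabilizes_iff_noetherian.2 ‹IsNoetherian A P› μ
  have htor : ∀ (b : A) (m : ℕ), N₀ ≤ m → ∀ q : Lc P b, f ^ m • q = 0 → f ^ N₀ • q = 0 := by
    intro b m hm q hq
    obtain ⟨w, n, hw⟩ := PurityTower.aw_surj q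
    have h1 : aw b (f ^ m • w) = 0 := by rw [map_smul, ← hw, smul_comm, hq, smul_zero]
    obtain ⟨p, hp⟩ := PurityTower.aw_eq_zero.1 h1
    rw [smul_comm] at hp
    have h2 : b ^ p • w ∈ μ m := hp
    rw [← hN₀ m hm] at h2
    refine PurityTower.lc_cancel (dvd_refl b) n ?_
    rw [smul_zero, smul_comm, hw, ← map_smul]
    exact PurityTower.aw_eq_zero.2 ⟨p, by rw [smul_comm]; exact h2⟩
  let m := N₀ + K + 1
  -- the rings of functions on the thickened charts
  let I : ∀ b : A, Ideal (Lc P b) := fun b => Ideal.span {algebraMap A (Lc P b) (f ^ m)}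
  have hidem : ∀ b ∈ maximalIdeal A, ∃ e : Lc P b, e * e - e ∈ I b ∧ ∀ Q : PrimeSpectrum (Lc P b), I b ≤ Q.asIdeal →
      (e ∉ Q.asIdeal ↔ PrimeSpectrum.comap (awR b).toRingHom Q ∈ C) := by
    intro b hb
    refine exists_idem_mod (awR (P := P) b).toRingHom (I b) hC hC' fun Q hQ => hCC _ ?_ ?_
    · show awR b (algebraMap A P f) ∈ Q.asIdeal
      rw [AlgHom.commutes]
      refine Q.isPrime.mem_of_pow_mem m ?_
      rw [← map_pow]
      exact hQ (Ideal.mem_span_singleton_self _)
    · intro he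
      have h1 : awR (P := P) b (algebraMap A P b) ∈ Q.asIdeal := (SetLike.ext_iff.1 he b).2 hb
      rw [AlgHom.commutes] at h1
      refine Q.isPrime.ne_top (Ideal.eq_top_of_isUnit_mem _ h1 ?_)
      rw [IsScalarTower.algebraMap_apply A (Localization.Away b) (Lc P b)]
      exact (IsLocalization.Away.algebraMap_isUnit b).map _
  choose e he2 heQ using hidem
  let ec : C0 P a := fun i => e (a i) (ha i)
  have hcomp : ∀ i j, ∃ c : Lc P (a i * a j), d0 P a ec i j = f ^ m • c := by
    intro i j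
    let b := a i * a j
    have hb : b ∈ maximalIdeal A := Ideal.mul_mem_right _ _ (ha i)
    have hred : ∀ l (hl : a l ∣ b), rsR hl (ec l) - e b hb ∈ I b := by
      intro l hl
      have hI : I (a l) ≤ (I b).comap (rsR (P := P) hl).toRingHom := by
        rw [Ideal.span_le, Set.singleton_subset_iff]
        show rsR hl (algebraMap A _ (f ^ m)) ∈ I b
        rw [AlgHom.commutes]
        exact Ideal.mem_span_singleton_self _
      refine sub_mem_of_agree (I b) ?_ (he2 b hb) fun Q hQ => ?_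
      · rw [← map_mul, ← map_sub]; exact hI (he2 _ (ha l))
      · rw [heQ b hb Q hQ]
        refine (heQ (a l) (ha l) (PrimeSpectrum.comap (rsR (P := P) hl).toRingHom Q)
          (hI.trans (Ideal.comap_mono hQ))).trans ?_
        suffices PrimeSpectrum.comap (awR (P := P) (a l)).toRingHom (PrimeSpectrum.comap (rsR (P := P) hl).toRingHom Q)
            = PrimeSpectrum.comap (awR b).toRingHom Q by rw [this]
        refine PrimeSpectrum.ext (Ideal.ext fun w => ?_)
        show rsR hl (awR (a l) w) ∈ Q.asIdeal ↔ awR b w ∈ Q.asIdeal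
        rw [rsR_awR]
    have h1 : rsR (dvd_mul_left (a j) (a i)) (ec j) - rsR (dvd_mul_right (a i) (a j)) (ec i) ∈ I b := by
      simpa using (I b).sub_mem (hred j (dvd_mul_left _ _)) (hred i (dvd_mul_right _ _))
    obtain ⟨c, hc⟩ := Ideal.mem_span_singleton.1 h1
    refine ⟨c, ?_⟩
    rw [PurityTower.d0_apply, ← rsR_apply, ← rsR_apply, hc, ← Algebra.smul_def]
  choose c hc using hcomp
  -- the cocycle
  have hcoc : (fun i j => f ^ N₀ • c i j) ∈ Z1 P a := by
    rw [PurityTower.mem_Z1]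
    intro i j l
    rw [map_smul, map_smul, map_smul, PurityTower.lsub, PurityTower.ladd]
    refine htor _ m (by omega) _ ?_
    rw [smul_add, smul_sub, ← map_smul, ← map_smul, ← map_smul, ← hc, ← hc, ← hc, PurityTower.d0_apply,
      PurityTower.d0_apply, PurityTower.d0_apply, map_sub, map_sub, map_sub, PurityTower.rs_rs, PurityTower.rs_rs,
      PurityTower.rs_rs, PurityTower.rs_rs, PurityTower.rs_rs, PurityTower.rs_rs]
    abel
  obtain ⟨u, hu⟩ := (Submodule.Quotient.mk_eq_zero _).1 (congrArg Subtype.val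
    (hkill ⟨(LinearMap.range (d0 P a)).mkQ _, ⟨_, hcoc, rfl⟩⟩))
  have hfix : d0 P a (ec - f • u) = 0 := by
    rw [map_sub, map_smul, hu]
    funext i j
    show d0 P a ec i j - f • f ^ K • f ^ N₀ • c i j = 0
    rw [hc i j, sub_eq_zero, ← mul_smul, ← mul_smul, ← pow_succ', ← pow_add]
    congr 2
    omega
  obtain ⟨E, hE⟩ := PurityTower.exists_glue (PurityTower.pairM_of_regPair hp) (hrad x' hx') (hrad y' hy') _ hfix
  refine ⟨E, fun Q hfQ hQ => ?_⟩
  obtain ⟨i, hi⟩ : ∃ i, algebraMap A P (a i) ∉ Q.asIdeal := by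
    by_contra! h
    refine hQ (le_antisymm (IsLocalRing.le_maximalIdeal (Ideal.IsPrime.ne_top inferInstance)) ?_)
    rw [← hs, Ideal.span_le]
    exact fun t ht => h ⟨t, ht⟩
  -- the point of the chart
  let b := a i
  let φ : Lc P b →+* Localization.AtPrime Q.asIdeal :=
    (Algebra.TensorProduct.lift
      (IsLocalization.Away.liftAlgHom b (f := Algebra.ofId A (Localization.AtPrime Q.asIdeal)) (by
        show IsUnit (algebraMap A (Localization.AtPrime Q.asIdeal) b)
        rw [IsScalarTower.algebraMap_apply A P]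
        exact IsLocalization.map_units _ (⟨_, hi⟩ : Q.asIdeal.primeCompl)))
      (IsScalarTower.toAlgHom A P (Localization.AtPrime Q.asIdeal)) fun _ _ => Commute.all _ _).toRingHom
  have hφ : ∀ w, φ (awR b w) = algebraMap P (Localization.AtPrime Q.asIdeal) w := fun w => by
    show Algebra.TensorProduct.lift _ _ _ ((1 : Localization.Away b) ⊗ₜ[A] w) = _
    rw [Algebra.TensorProduct.lift_tmul, map_one, one_mul]
    rfl
  have hφA : ∀ r, φ (algebraMap A (Lc P b) r) = algebraMap A (Localization.AtPrime Q.asIdeal) r := fun r => by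
    rw [← AlgHom.commutes (awR (P := P) b), hφ, ← IsScalarTower.algebraMap_apply]
  let M : Ideal (Lc P b) := Ideal.comap φ (maximalIdeal (Localization.AtPrime Q.asIdeal))
  have hfM : algebraMap A (Lc P b) f ∈ M := by
    show φ (algebraMap A (Lc P b) f) ∈ maximalIdeal (Localization.AtPrime Q.asIdeal)
    rw [hφA, IsScalarTower.algebraMap_apply A P, IsLocalization.AtPrime.to_map_mem_maximal_iff _ Q.asIdeal]
    exact hfQ
  have hIM : I b ≤ M := by
    rw [Ideal.span_le, Set.singleton_subset_iff]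
    show algebraMap A (Lc P b) (f ^ m) ∈ M
    rw [map_pow]
    exact M.pow_mem_of_mem hfM m (by omega)
  haveI : M.IsPrime := Ideal.comap_isPrime _ _
  have hMQ : ∀ w, awR b w ∈ M ↔ w ∈ Q.asIdeal := fun w => by
    show φ (awR b w) ∈ maximalIdeal (Localization.AtPrime Q.asIdeal) ↔ _
    rw [hφ, IsLocalization.AtPrime.to_map_mem_maximal_iff _ Q.asIdeal]
  let Mb : PrimeSpectrum (Lc P b) := ⟨M, inferInstance⟩
  have hk : PrimeSpectrum.comap (awR (P := P) b).toRingHom Mb = Q := PrimeSpectrum.ext (Ideal.ext fun w => hMQ w)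
  have hEe : awR b E - ec i ∈ M := by
    have h1 : ec i - f • u i = aw b E := hE i
    rw [awR_apply, ← h1, sub_sub_cancel_left]
    exact neg_mem (by
      have : f • u i = algebraMap A (Lc P b) f * u i := Algebra.smul_def f (u i)
      exact this ▸ M.mul_mem_right _ hfM)
  have hEi : E ∈ Q.asIdeal ↔ ec i ∈ M := by
    rw [← hMQ]
    exact ⟨fun h => by simpa using M.sub_mem h hEe, fun h => by simpa using M.add_mem hEe h⟩
  refine ⟨(hMQ _).1 ?_, ?_⟩
  · have h2 : ec i * ec i - ec i ∈ M := hIM (he2 b (ha i))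
    rw [map_sub, map_mul, show awR b E * awR b E - awR b E =
      (awR b E - ec i) * (awR b E + ec i - 1) + (ec i * ec i - ec i) by ring]
    exact M.add_mem (M.mul_mem_right _ hEe) h2
  · rw [← hk, ← heQ b (ha i) Mb hIM, hk, hEi]

theorem exists_point_below [Module.Finite A P] (hS : Sat A P) {f : A} (hf : f ∈ maximalIdeal A)
    (n : Ideal P) [n.IsMaximal] :
    ∃ Q : PrimeSpectrum P, Q.asIdeal ≤ n ∧ algebraMap A P f ∈ Q.asIdeal ∧
      Q.asIdeal.comap (algebraMap A P) ≠ maximalIdeal A := by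
  haveI : IsNoetherianRing P := IsNoetherianRing.of_finite A P
  haveI : (n.comap (algebraMap A P)).IsMaximal := Ideal.isMaximal_comap_of_isIntegral_of_isMaximal n
  have hn : n.comap (algebraMap A P) = maximalIdeal A := IsLocalRing.eq_maximalIdeal inferInstance
  have hmem : ∀ r ∈ maximalIdeal A, algebraMap A P r ∈ n := fun r hr => (SetLike.ext_iff.1 hn r).2 hr
  obtain ⟨x, y, hx, hy, hp⟩ := hS
  let X := algebraMap A P x
  let Y := algebraMap A P y
  obtain ⟨Q, hQ, hQn⟩ := Ideal.exists_minimalPrimes_le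
    (show Ideal.span {algebraMap A P f} ≤ n from (Ideal.span_singleton_le_iff_mem _).2 (hmem f hf))
  haveI := hQ.1.1
  by_cases hne : Q = n
  swap
  · refine ⟨⟨Q, inferInstance⟩, hQn, hQ.1.2 (Ideal.mem_span_singleton_self _), fun he => hne ?_⟩
    haveI : (Q.comap (algebraMap A P)).IsMaximal := by rw [show Q.comap (algebraMap A P) = _ from he]; exact maximalIdeal.isMaximal A
    exact (Ideal.isMaximal_of_isIntegral_of_isMaximal_comap (R := A) Q inferInstance).eq_of_le
      (Ideal.IsPrime.ne_top ‹n.IsMaximal›.isPrime) hQn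
  exfalso
  subst hne
  have hh : Q.height ≤ 1 := Ideal.height_le_one_of_isPrincipal_of_mem_minimalPrimes _ Q hQ
  -- `Q` is minimal over `x`
  have hmin : Q ∈ (Ideal.span {X}).minimalPrimes := by
    obtain ⟨r, hr, hrQ⟩ := Ideal.exists_minimalPrimes_le
      (show Ideal.span {X} ≤ Q from (Ideal.span_singleton_le_iff_mem _).2 (hmem x hx))
    haveI := hr.1.1
    rcases eq_or_lt_of_le hrQ with h | h
    · exact h ▸ hr
    have h0 := (Ideal.height_strict_mono_of_isPrime_of_isPrime h).trans_le hh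
    rw [ENat.lt_one_iff_eq_zero, Ideal.height_eq_zero_iff] at h0
    have hnz : X ∈ nonZeroDivisors P := mem_nonZeroDivisors_iff.2
      ⟨hp.reg, fun w hw => hp.reg w (by rw [mul_comm]; exact hw)⟩
    exact absurd (hr.1.2 (Ideal.mem_span_singleton_self X))
      (Set.disjoint_left.1 (Ideal.disjoint_nonZeroDivisors_of_mem_minimalPrimes h0).symm hnz)
  let PQ := Localization.AtPrime Q
  have hY : algebraMap P PQ Y ∈ (Ideal.span {algebraMap P PQ X}).radical := by
    rw [Ideal.radical_eq_sInf, Submodule.mem_sInf]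
    rintro (q : Ideal PQ) ⟨hXq, hq⟩
    have h1 : q.comap (algebraMap P PQ) ≤ Q := fun w hw => by_contra fun hwQ =>
      hq.ne_top (Ideal.eq_top_of_isUnit_mem _ (show algebraMap P PQ w ∈ q from hw) (IsLocalization.map_units PQ (⟨w, hwQ⟩ : Q.primeCompl)))
    have h2 : Q ≤ q.comap (algebraMap P PQ) := hmin.2 ⟨inferInstance, by
      rw [Ideal.span_le, Set.singleton_subset_iff]
      exact hXq (Ideal.mem_span_singleton_self _)⟩ h1
    exact h2 (hmem y hy)
  obtain ⟨k, hk⟩ := hY
  rw [← map_pow, ← Set.image_singleton, ← Ideal.map_span] at hk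
  obtain ⟨⟨⟨v, hv⟩, t⟩, hvt⟩ := (IsLocalization.mem_map_algebraMap_iff Q.primeCompl PQ).1 hk
  rw [← map_mul] at hvt
  obtain ⟨c, hc⟩ := (IsLocalization.eq_iff_exists Q.primeCompl PQ).1 hvt
  obtain ⟨v', hv'⟩ := Ideal.mem_span_singleton.1 hv
  have hdvd : X ∣ Y ^ k * ((c : P) * t) := ⟨c * v', by
    simp only at hc
    linear_combination hc + (c : P) * hv'⟩
  have hct : X ∣ (c : P) * t := by
    have : ∀ (j : ℕ) (w : P), X ∣ Y ^ j * w → X ∣ w := by
      intro j
      induction j with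
      | zero => intro w hw; simpa using hw
      | succ j ih => exact fun w hw => ih w (hp.div _ (by rwa [← mul_assoc, ← pow_succ']))
    exact this k _ hdvd
  exact (Ideal.IsPrime.mem_or_mem ‹Q.IsPrime› (Ideal.mem_of_dvd Q hct (hmem x hx))).elim c.2 t.2

/-- idempotent lifting -/
theorem exists_idem {A : Type u} [CommRing A] [IsNoetherianRing A] [HenselianLocalRing A] {P : Type u} [CommRing P] [Algebra A P] (hd : (3 : ℕ∞) ≤ LocCoh.depth A A) [Module.Finite A P] (hP : FEtOff A P)
    (hS : Sat A P) {f : A} (hf : f ∈ maximalIdeal A) {C C' : Set (PrimeSpectrum P)} (hC : IsClosed C)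
    (hC' : IsClosed C')
    (hCC : ∀ Q : PrimeSpectrum P, algebraMap A P f ∈ Q.asIdeal → Q.asIdeal.comap (algebraMap A P) ≠ maximalIdeal A →
      (Q ∈ C ↔ Q ∉ C')) :
    ∃ E : P, IsIdempotentElem E ∧ ∀ Q : PrimeSpectrum P, algebraMap A P f ∈ Q.asIdeal →
      Q.asIdeal.comap (algebraMap A P) ≠ maximalIdeal A → (E ∉ Q.asIdeal ↔ Q ∈ C) := by
  obtain ⟨e, he⟩ := exists_separating hd hP hS hf hC hC' hCC
  let J : Ideal P := (maximalIdeal A).map (algebraMap A P)
  have hmax : ∀ n : Ideal P, n.IsMaximal → J ≤ n := fun n hn => by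
    haveI : (n.comap (algebraMap A P)).IsMaximal := Ideal.isMaximal_comap_of_isIntegral_of_isMaximal n
    exact Ideal.map_le_iff_le_comap.2 (IsLocalRing.eq_maximalIdeal ‹(n.comap (algebraMap A P)).IsMaximal›).ge
  have hrad : e * e - e ∈ J.radical := by
    rw [Ideal.radical_eq_sInf, Submodule.mem_sInf]
    rintro (q : Ideal P) ⟨hJq, hq⟩
    haveI := hq
    obtain ⟨n, hn, hqn⟩ := Ideal.exists_le_maximal q hq.ne_top
    haveI := hn
    have hc : (q.comap (algebraMap A P)).IsMaximal := by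
      rw [(maximalIdeal.isMaximal A).eq_of_le (Ideal.IsPrime.ne_top inferInstance)
        (Ideal.map_le_iff_le_comap.1 hJq) |>.symm]
      exact maximalIdeal.isMaximal A
    haveI := Ideal.isMaximal_of_isIntegral_of_isMaximal_comap (R := A) q hc
    obtain ⟨Q, hQn, hQf, hQm⟩ := exists_point_below hS hf q
    exact hQn (he Q hQf hQm).1
  obtain ⟨k, hk⟩ := hrad
  obtain ⟨e₁, he₁, he₁e⟩ := exists_isIdempotentElem_eq_of_ker_isNilpotent
    (Ideal.Quotient.factor (S := J) (T := J ⊔ Ideal.span {e * e - e}) le_sup_left)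
    (fun w hw => by
      obtain ⟨w, rfl⟩ := Ideal.Quotient.mk_surjective w
      have hw' : w ∈ J ⊔ Ideal.span {e * e - e} := Ideal.Quotient.eq_zero_iff_mem.1 hw
      obtain ⟨j, hj, s, hs, rfl⟩ := Submodule.mem_sup.1 hw'
      obtain ⟨s', rfl⟩ := Ideal.mem_span_singleton.1 hs
      refine ⟨k, ?_⟩
      rw [map_add, Ideal.Quotient.eq_zero_iff_mem.2 hj, zero_add, ← map_pow, Ideal.Quotient.eq_zero_iff_mem,
        mul_pow]
      exact J.mul_mem_right _ hk)
    (Ideal.Quotient.mk _ e) ⟨Ideal.Quotient.mk _ e, rfl⟩ (by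
      rw [IsIdempotentElem, ← map_mul, Ideal.Quotient.eq]
      exact Ideal.mem_sup_right (Ideal.mem_span_singleton_self _))
  obtain ⟨e₁, rfl⟩ := Ideal.Quotient.mk_surjective e₁
  haveI : HenselianRing A (maximalIdeal A) := inferInstance
  obtain ⟨E, hE, hEe⟩ := Hensel.exists_idem_lift_of_finite (Hensel.gabberRoot_of_henselianRing (A := A) (I := maximalIdeal A))
    e₁ (show e₁ * e₁ - e₁ ∈ J by rw [← Ideal.Quotient.eq, map_mul]; exact he₁.eq)
  refine ⟨E, hE, fun Q hQf hQm => ?_⟩
  obtain ⟨h1, h2⟩ := he Q hQf hQm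
  rw [← h2]
  obtain ⟨n, hn, hQn⟩ := Ideal.exists_le_maximal Q.asIdeal Q.isPrime.ne_top
  haveI := hn
  obtain ⟨Q', hQ'n, hQ'f, hQ'm⟩ := exists_point_below hS hf n
  have hEn : E - e ∈ n := by
    have h3 : e₁ - e ∈ J ⊔ Ideal.span {e * e - e} := Ideal.Quotient.eq.1 he₁e
    have h4 : J ⊔ Ideal.span {e * e - e} ≤ n :=
      sup_le (hmax n hn) ((Ideal.span_singleton_le_iff_mem _).2 (hQ'n (he Q' hQ'f hQ'm).1))
    simpa using n.add_mem (hmax n hn hEe) (h4 h3)
  have hEQ : E * E - E ∈ Q.asIdeal := by rw [hE.eq, sub_self]; exact Q.asIdeal.zero_mem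
  have hd : (E - e) * ((E + e - 1)) ∈ Q.asIdeal := by
    rw [show (E - e) * (E + e - 1) = (E * E - E) - (e * e - e) by ring]
    exact Q.asIdeal.sub_mem hEQ h1
  have hf' : ∀ w, w * w - w ∈ Q.asIdeal → w ∈ Q.asIdeal ∨ w - 1 ∈ Q.asIdeal := fun w hw =>
    Q.isPrime.mem_or_mem (by rwa [mul_sub, mul_one])
  rcases hf' E hEQ with a1 | a1 <;> rcases hf' e h1 with a2 | a2
  · exact ⟨fun h => absurd a1 h, fun h => absurd a2 h⟩
  · exfalso
    refine hn.ne_top ((Ideal.eq_top_iff_one n).2 ?_)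
    simpa using n.sub_mem (n.sub_mem (hQn a1) hEn) (hQn a2)
  · exfalso
    refine hn.ne_top ((Ideal.eq_top_iff_one n).2 ?_)
    simpa using n.add_mem (n.sub_mem hEn (hQn a1)) (hQn a2)
  · have : ∀ w, w - 1 ∈ Q.asIdeal → w ∉ Q.asIdeal := fun w hw h =>
      Q.isPrime.ne_top ((Ideal.eq_top_iff_one _).2 (by simpa using Q.asIdeal.sub_mem h hw))
    exact iff_of_true (this E a1) (this e a2)

end Groth.Agent.PuncLef
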